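import Mathlib

/-!
# Quantum tori have no zero divisors

An algebra over `k = Frac C[X_a]` generated by elements `g_a` with `g_a ^ m_a = X_a` and commuting up to
constants, of dimension at most `∏ m_a`, has no zero divisors.
-/

set_option autoImplicit false
set_option linter.style.haveILetI false

universe u

open MvPolynomial

namespace Groth.Agent.CSAType.QTorus

noncomputable section

variable {C : Type u} [Field C] {τ : Type*} [Fintype τ]
  {k : Type u} [Field k] [Algebra C k] [Algebra (MvPolynomial τ C) k] [IsScalarTower C (MvPolynomial τ C) k]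
  {D : Type u} [Ring D] [Algebra k D] [Algebra C D] [IsScalarTower C k D]

variable (C) in
/-- Equality up to a nonzero constant. -/
def Rel (x y : D) : Prop := ∃ c : C, c ≠ 0 ∧ x = c • y

theorem rel_refl (x : D) : Rel C x x := ⟨1, one_ne_zero, (one_smul C x).symm⟩

theorem Rel.trans {x y z : D} (h : Rel C x y) (h' : Rel C y z) : Rel C x z := by
  obtain ⟨c, hc, rfl⟩ := h
  obtain ⟨c', hc', rfl⟩ := h'
  exact ⟨c * c', mul_ne_zero hc hc', smul_smul _ _ _⟩

theorem Rel.symm {x y : D} (h : Rel C x y) : Rel C y x := by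
  obtain ⟨c, hc, rfl⟩ := h
  exact ⟨c⁻¹, inv_ne_zero hc, by rw [smul_smul, inv_mul_cancel₀ hc, one_smul]⟩

theorem Rel.mul {x y x' y' : D} (h : Rel C x y) (h' : Rel C x' y') : Rel C (x * x') (y * y') := by
  obtain ⟨c, hc, rfl⟩ := h
  obtain ⟨c', hc', rfl⟩ := h'
  exact ⟨c * c', mul_ne_zero hc hc', by rw [smul_mul_assoc, mul_smul_comm, smul_smul]⟩

theorem skew_mul {x y z : D} (h : Rel C (x * z) (z * x)) (h' : Rel C (y * z) (z * y)) :
    Rel C ((x * y) * z) (z * (x * y)) := by
  have e1 : Rel C ((x * y) * z) (x * z * y) := by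
    rw [mul_assoc, mul_assoc]
    exact (rel_refl x).mul h'
  exact e1.trans (by
    rw [← mul_assoc z x y]
    exact h.mul (rel_refl y))

theorem skew_pow {x z : D} (h : Rel C (x * z) (z * x)) : ∀ n : ℕ, Rel C (x ^ n * z) (z * x ^ n)
  | 0 => by rw [pow_zero, one_mul, mul_one]; exact rel_refl z
  | n + 1 => by rw [pow_succ]; exact skew_mul (skew_pow h n) h

variable (g : τ → D)

/-- Ordered monomials. -/
def mon (l : List τ) (e : τ → ℕ) : D := (l.map fun a => g a ^ e a).prod

theorem skew_mon {z : D} (h : ∀ a, Rel C (g a * z) (z * g a)) :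
    ∀ (l : List τ) (e : τ → ℕ), Rel C (mon g l e * z) (z * mon g l e)
  | [], e => by simp only [mon, List.map_nil, List.prod_nil, one_mul, mul_one]; exact rel_refl z
  | a :: l, e => by
    simp only [mon, List.map_cons, List.prod_cons]
    exact skew_mul (skew_pow (h a) _) (skew_mon h l e)

variable (hg : ∀ a b, Rel C (g a * g b) (g b * g a))

include hg in
theorem mon_mul : ∀ (l : List τ) (e f : τ → ℕ), Rel C (mon g l e * mon g l f) (mon g l (e + f))
  | [], e, f => by simp only [mon, List.map_nil, List.prod_nil, one_mul]; exact rel_refl 1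
  | a :: l, e, f => by
    simp only [mon, List.map_cons, List.prod_cons]
    have h1 : Rel C (mon g l e * g a ^ f a) (g a ^ f a * mon g l e) :=
      (skew_pow (skew_mon g (fun b => hg b a) l e).symm (f a)).symm
    have h2 := mon_mul l e f
    have h3 : Rel C (g a ^ e a * (mon g l e * g a ^ f a) * mon g l f)
        (g a ^ e a * (g a ^ f a * mon g l e) * mon g l f) :=
      ((rel_refl _).mul h1).mul (rel_refl _)
    have h4 : Rel C (g a ^ e a * g a ^ f a * (mon g l e * mon g l f)) (g a ^ (e + f) a * mon g l (e + f)) := by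
      rw [Pi.add_apply, pow_add]
      exact (rel_refl _).mul h2
    refine Rel.trans ?_ h4
    simp only [mon] at h3 ⊢
    simpa only [mul_assoc] using h3

theorem mon_zero : ∀ l : List τ, mon g l (0 : τ → ℕ) = 1
  | [] => rfl
  | a :: l => by
    simp only [mon, List.map_cons, List.prod_cons, Pi.zero_apply, pow_zero, one_mul]
    simpa only [mon, Pi.zero_apply, pow_zero] using mon_zero l

theorem mon_single [DecidableEq τ] (a : τ) : ∀ l : List τ, l.Nodup →
    mon g l (Pi.single a 1) = if a ∈ l then g a else 1
  | [], _ => by simp [mon]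
  | b :: l, h => by
    obtain ⟨hb, hl⟩ := List.nodup_cons.1 h
    simp only [mon, List.map_cons, List.prod_cons]
    have ih := mon_single a l hl
    simp only [mon] at ih
    rw [ih]
    by_cases hab : b = a
    · subst hab; simp [hb]
    · simp [hab, Ne.symm hab]

variable (m : τ → ℕ) (hm : ∀ a, g a ^ m a = algebraMap k D (algebraMap (MvPolynomial τ C) k (X a)))

include hm in
theorem mon_period (q : τ → ℕ) : ∀ (l : List τ) (e : τ → ℕ),
    mon g l (fun a => m a * q a + e a) =
      algebraMap k D (algebraMap (MvPolynomial τ C) k (l.map fun a => X a ^ q a).prod) * mon g l e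
  | [], e => by simp [mon]
  | a :: l, e => by
    simp only [mon, List.map_cons, List.prod_cons, map_mul]
    have ih := mon_period q l e
    simp only [mon] at ih
    rw [ih, pow_add, pow_mul, hm, ← map_pow, ← map_pow, mul_assoc, mul_assoc, ← mul_assoc (g a ^ e a),
      ← Algebra.commutes _ (g a ^ e a), mul_assoc]

variable [IsFractionRing (MvPolynomial τ C) k] (hpos : ∀ a, 0 < m a)
  (hgen : Algebra.adjoin k (Set.range g) = ⊤) (hdim : Module.finrank k D = ∏ a, m a)

/-- All of the variables. -/
def enum : List τ := (Finset.univ : Finset τ).toList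

/-- The monomial with given exponents. -/
def Mon (e : τ → ℕ) : D := mon g enum e

theorem prod_enum (q : τ → ℕ) :
    ((enum (τ := τ)).map fun a => (X a : MvPolynomial τ C) ^ q a).prod = monomial (Finsupp.equivFunOnFinite.symm q) 1 := by
  rw [enum, Finset.prod_map_toList, monomial_eq, Finsupp.prod_fintype _ _ (fun a => pow_zero _), C_1, one_mul]
  simp

/-- The remainders of exponents. -/
def rem (e : τ → ℕ) : (a : τ) → Fin (m a) := fun a => ⟨e a % m a, Nat.mod_lt _ (hpos a)⟩

include hm in
theorem Mon_div_mod (e : τ → ℕ) :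
    Mon g e = algebraMap k D (algebraMap (MvPolynomial τ C) k
      (monomial (Finsupp.equivFunOnFinite.symm fun a => e a / m a) 1)) * Mon g (fun a => e a % m a) := by
  rw [Mon, Mon, ← prod_enum, ← mon_period g m hm]
  congr 1
  funext a
  exact (Nat.div_add_mod _ _).symm

/-- The candidate basis. -/
def bas (r : (a : τ) → Fin (m a)) : D := Mon g fun a => r a

include hm hg hpos hgen in
theorem span_bas : ⊤ ≤ Submodule.span k (Set.range (bas g m)) := by
  classical
  set W := Submodule.span k (Set.range (bas g m))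
  have hMon : ∀ e, Mon g e ∈ W := fun e => by
    rw [Mon_div_mod g m hm e, ← Algebra.smul_def]
    exact W.smul_mem _ (Submodule.subset_span ⟨rem m hpos e, rfl⟩)
  have hmul : ∀ x ∈ W, ∀ y ∈ W, x * y ∈ W := by
    intro x hx y hy
    induction hx using Submodule.span_induction with
    | mem x hx =>
      induction hy using Submodule.span_induction with
      | mem y hy =>
        obtain ⟨r, rfl⟩ := hx
        obtain ⟨s, rfl⟩ := hy
        obtain ⟨c, -, hc⟩ := mon_mul g hg enum (fun a => (r a : ℕ)) (fun a => (s a : ℕ))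
        show mon g enum _ * mon g enum _ ∈ W
        rw [hc, ← algebraMap_smul k c]
        exact W.smul_mem _ (hMon _)
      | zero => rw [mul_zero]; exact W.zero_mem
      | add y y' _ _ hy hy' => rw [mul_add]; exact W.add_mem hy hy'
      | smul t y _ hy => rw [mul_smul_comm]; exact W.smul_mem _ hy
    | zero => rw [zero_mul]; exact W.zero_mem
    | add x x' _ _ hx hx' => rw [add_mul]; exact W.add_mem hx hx'
    | smul t x _ hx => rw [smul_mul_assoc]; exact W.smul_mem _ hx
  have h1 : (1 : D) ∈ W := mon_zero g (enum (τ := τ)) ▸ hMon 0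
  let S : Subalgebra k D :=
    { carrier := W
      mul_mem' := fun {a b} ha hb => hmul a ha b hb
      one_mem' := h1
      add_mem' := fun ha hb => W.add_mem ha hb
      zero_mem' := W.zero_mem
      algebraMap_mem' := fun r => by rw [Algebra.algebraMap_eq_smul_one]; exact W.smul_mem _ h1 }
  have hS : Algebra.adjoin k (Set.range g) ≤ S := Algebra.adjoin_le (by
    rintro _ ⟨a, rfl⟩
    show g a ∈ W
    have h := mon_single g a enum (Finset.nodup_toList _)
    rw [if_pos (by simp [enum])] at h
    exact h ▸ hMon _)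
  intro x _
  exact hS (hgen ▸ Algebra.mem_top)

include hg hm hpos hgen hdim in
theorem noZeroDivisors : NoZeroDivisors D := by
  classical
  have hfin : FiniteDimensional k D := Module.finite_of_finrank_pos (hdim ▸ Finset.prod_pos fun a _ => hpos a)
  have hli : LinearIndependent k (bas g m) := linearIndependent_of_top_le_span_of_card_eq_finrank
    (span_bas g hg m hm hpos hgen) (by rw [hdim, Fintype.card_pi]; simp)
  let R := MvPolynomial τ C
  let L : R →ₗ[C] D := Finsupp.linearCombination C (fun e : τ →₀ ℕ => Mon g ⇑e) ∘ₗ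
    (AddMonoidAlgebra.coeffLinearEquiv C).toLinearMap
  have hL : ∀ (e : τ →₀ ℕ) (c : C), L (monomial e c) = c • Mon g ⇑e := fun e c => by
    show Finsupp.linearCombination C (fun e : τ →₀ ℕ => Mon g ⇑e) (Finsupp.single e c) = _
    rw [Finsupp.linearCombination_single]
  let qq : (τ →₀ ℕ) → (τ →₀ ℕ) := fun e => Finsupp.equivFunOnFinite.symm fun a => e a / m a
  let P : ((a : τ) → Fin (m a)) → R →ₗ[C] R := fun r =>
    Finsupp.linearCombination C (fun e : τ →₀ ℕ => if rem m hpos ⇑e = r then monomial (qq e) (1 : C) else 0) ∘ₗ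
      (AddMonoidAlgebra.coeffLinearEquiv C).toLinearMap
  have hP : ∀ r (e : τ →₀ ℕ) (c : C), P r (monomial e c) = if rem m hpos ⇑e = r then monomial (qq e) c else 0 :=
    fun r e c => by
      show Finsupp.linearCombination C _ (Finsupp.single e c) = _
      rw [Finsupp.linearCombination_single]
      split_ifs with h
      · rw [smul_monomial, smul_eq_mul, mul_one]
      · rw [smul_zero]
  have hdec : ∀ f : R, L f = ∑ r, (algebraMap R k (P r f)) • bas g m r := fun f => by
    induction f using MvPolynomial.induction_on' with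
    | monomial e c =>
      rw [hL, Finset.sum_eq_single (rem m hpos ⇑e) (fun r _ hr => by
        rw [hP, if_neg (Ne.symm hr), map_zero, zero_smul]) (by simp), hP, if_pos rfl, Mon_div_mod g m hm,
        ← Algebra.smul_def, ← algebraMap_smul k c, smul_smul, IsScalarTower.algebraMap_apply C R k, ← map_mul,
        MvPolynomial.algebraMap_eq, C_mul_monomial, mul_one]
      rfl
    | add p q hp hq => simp only [map_add, add_smul, Finset.sum_add_distrib, hp, hq]
  have key : ∀ (f : R) (e : τ →₀ ℕ), coeff (qq e) (P (rem m hpos ⇑e) f) = coeff e f := fun f e => by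
    induction f using MvPolynomial.induction_on' with
    | monomial e' c =>
      rw [hP]
      by_cases h : e' = e
      · subst h; simp
      · have hne : ¬ (rem m hpos ⇑e' = rem m hpos ⇑e ∧ qq e' = qq e) := fun hh => h <| Finsupp.ext fun a => by
          have e1 := congrArg Fin.val (congrFun hh.1 a)
          have e2 := DFunLike.congr_fun hh.2 a
          simp only [rem] at e1
          simp only [qq, Finsupp.coe_equivFunOnFinite_symm] at e2
          rw [← Nat.div_add_mod (e' a) (m a), ← Nat.div_add_mod (e a) (m a), e1, e2]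
        rw [coeff_monomial, if_neg h]
        split_ifs with h1
        · rw [coeff_monomial, if_neg fun h2 => hne ⟨h1, h2⟩]
        · rw [coeff_zero]
    | add p q hp hq => rw [show P (rem m hpos ⇑e) (p + q) = P _ p + P _ q from map_add _ _ _, coeff_add, coeff_add, hp, hq]
  have hLinj : ∀ f, L f = 0 → f = 0 := fun f hf => by
    rw [hdec] at hf
    have h0 := Fintype.linearIndependent_iff.1 hli _ hf
    refine MvPolynomial.ext _ _ fun e => ?_
    rw [coeff_zero]
    rw [← key f e, IsFractionRing.injective R k ((h0 _).trans (map_zero _).symm), coeff_zero]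
  have hmulX : ∀ (Q f : R), ∃ f', algebraMap k D (algebraMap R k Q) * L f = L f' := fun Q f => by
    induction f using MvPolynomial.induction_on' with
    | monomial e c =>
      induction Q using MvPolynomial.induction_on' with
      | monomial q c' =>
        refine ⟨monomial (Finsupp.equivFunOnFinite.symm fun a => m a * q a + e a) (c' * c), ?_⟩
        have h1 : (monomial q c' : R) = algebraMap C R c' *
            monomial (Finsupp.equivFunOnFinite.symm ⇑q) 1 := by
          rw [MvPolynomial.algebraMap_eq, C_mul_monomial, mul_one, Finsupp.equivFunOnFinite_symm_coe]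
        rw [hL, hL, Finsupp.coe_equivFunOnFinite_symm, Mon, Mon, mon_period g m hm, prod_enum, h1,
          map_mul, ← IsScalarTower.algebraMap_apply C R k, map_mul, ← IsScalarTower.algebraMap_apply C k D,
          mul_assoc, ← Algebra.smul_def c', mul_smul_comm, smul_smul]
      | add p q hp hq =>
        obtain ⟨f₁, e₁⟩ := hp
        obtain ⟨f₂, e₂⟩ := hq
        exact ⟨f₁ + f₂, by rw [map_add, map_add, add_mul, e₁, e₂, map_add]⟩
    | add p q hp hq =>
      obtain ⟨f₁, e₁⟩ := hp
      obtain ⟨f₂, e₂⟩ := hq
      exact ⟨f₁ + f₂, by rw [map_add, mul_add, e₁, e₂, map_add]⟩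
  have hscal : ∀ x : D, ∃ (P' : R) (f : R), P' ≠ 0 ∧ algebraMap k D (algebraMap R k P') * x = L f := by
    intro x
    have hx : x ∈ Submodule.span k (Set.range (bas g m)) := span_bas g hg m hm hpos hgen trivial
    induction hx using Submodule.span_induction with
    | mem x hx =>
      obtain ⟨r, rfl⟩ := hx
      refine ⟨1, monomial (Finsupp.equivFunOnFinite.symm fun a => (r a : ℕ)) 1, one_ne_zero, ?_⟩
      rw [map_one, map_one, one_mul, hL, one_smul]
      rfl
    | zero => exact ⟨1, 0, one_ne_zero, by simp⟩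
    | add x y _ _ hx hy =>
      obtain ⟨P₁, f₁, h₁, e₁⟩ := hx
      obtain ⟨P₂, f₂, h₂, e₂⟩ := hy
      obtain ⟨u₁, hu₁⟩ := hmulX P₂ f₁
      obtain ⟨u₂, hu₂⟩ := hmulX P₁ f₂
      refine ⟨P₂ * P₁, u₁ + u₂, mul_ne_zero h₂ h₁, ?_⟩
      rw [mul_add, map_add L, ← hu₁, ← hu₂, ← e₁, ← e₂, ← mul_assoc, ← mul_assoc, ← map_mul (algebraMap k D),
        ← map_mul (algebraMap k D), ← map_mul (algebraMap R k), ← map_mul (algebraMap R k), mul_comm P₁ P₂]
    | smul t x _ hx =>
      obtain ⟨P', f, h', e'⟩ := hx
      obtain ⟨a, b, hb, rfl⟩ := IsFractionRing.div_surjective (A := R) t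
      have hb0 : b ≠ 0 := nonZeroDivisors.ne_zero hb
      have hbk : algebraMap R k b ≠ 0 := fun h => hb0 (IsFractionRing.injective R k (h.trans (map_zero _).symm))
      refine ⟨b * P', ?_⟩
      have : algebraMap k D (algebraMap R k (b * P')) * ((algebraMap R k a / algebraMap R k b) • x) =
          algebraMap k D (algebraMap R k a) * L f := by
        rw [← e', Algebra.smul_def, ← mul_assoc, ← mul_assoc, ← map_mul, ← map_mul]
        congr 2
        rw [map_mul]
        field_simp
      obtain ⟨f', hf'⟩ := hmulX a f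
      exact ⟨f', mul_ne_zero hb0 h', this.trans hf'⟩
  have hprod : ∀ f f' : R, f ≠ 0 → f' ≠ 0 → L f * L f' ≠ 0 := by
    intro f f' hf hf'
    choose c hc0 hc using fun e e' : τ →₀ ℕ => mon_mul g hg enum ⇑e ⇑e'
    let h : R := ∑ e ∈ f.support, ∑ e' ∈ f'.support, monomial (e + e') (coeff e f * coeff e' f' * c e e')
    have hh : L h = L f * L f' := by
      conv_rhs => rw [f.as_sum, f'.as_sum]
      simp only [h, map_sum, hL, Finset.sum_mul, Finset.mul_sum]
      rw [Finset.sum_comm]
      refine Finset.sum_congr rfl fun e _ => Finset.sum_congr rfl fun e' _ => ?_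
      rw [smul_mul_assoc, mul_smul_comm, smul_smul, Mon, Mon, Mon, Finsupp.coe_add, hc, smul_smul]
    rw [← hh]
    intro h0
    have hz := hLinj h h0
    obtain ⟨e₀, he₀, e₀', he₀', hu⟩ := UniqueSums.uniqueAdd_of_nonempty
      (support_nonempty.2 hf) (support_nonempty.2 hf')
    have hcoef : coeff (e₀ + e₀') h = coeff e₀ f * coeff e₀' f' * c e₀ e₀' := by
      simp only [h]
      rw [MvPolynomial.coeff_sum, Finset.sum_eq_single e₀, MvPolynomial.coeff_sum, Finset.sum_eq_single e₀',
        coeff_monomial, if_pos rfl]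
      · intro e' he' hne
        rw [coeff_monomial]
        exact if_neg fun heq => hne (hu he₀ he' heq).2
      · intro hn; exact absurd he₀' hn
      · intro e he hne
        rw [MvPolynomial.coeff_sum]
        refine Finset.sum_eq_zero fun e' he' => ?_
        rw [coeff_monomial]
        exact if_neg fun heq => hne (hu he he' heq).1
      · intro hn; exact absurd he₀ hn
    rw [hz, coeff_zero] at hcoef
    exact mul_ne_zero (mul_ne_zero (mem_support_iff.1 he₀) (mem_support_iff.1 he₀')) (hc0 _ _) hcoef.symm
  refine ⟨fun {x y} hxy => ?_⟩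
  obtain ⟨P₁, f₁, h₁, e₁⟩ := hscal x
  obtain ⟨P₂, f₂, h₂, e₂⟩ := hscal y
  have hunit : ∀ Q : R, Q ≠ 0 → IsUnit (algebraMap k D (algebraMap R k Q)) := fun Q hQ =>
    (isUnit_iff_ne_zero.2 fun h => hQ (IsFractionRing.injective R k (h.trans (map_zero _).symm))).map _
  have h00 : L f₁ * L f₂ = 0 := by
    rw [← e₁, ← e₂, mul_assoc, ← mul_assoc x, ← Algebra.commutes _ x, mul_assoc, hxy, mul_zero, mul_zero]
  by_cases hf₁ : f₁ = 0
  · left
    rw [hf₁, map_zero] at e₁
    exact (hunit P₁ h₁).mul_right_eq_zero.1 e₁
  · right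
    have hf₂ : f₂ = 0 := by_contra fun hf₂ => hprod _ _ hf₁ hf₂ h00
    rw [hf₂, map_zero] at e₂
    exact (hunit P₂ h₂).mul_right_eq_zero.1 e₂

end

end Groth.Agent.CSAType.QTorus
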