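import Groth.Agent.S12441
import Groth.Agent.GrassRep.Rep
import Groth.Prelude.Def_BrSev2

/-!
# Severi–Brauer schemes exist
-/

set_option autoImplicit false
set_option linter.style.haveILetI false
set_option backward.isDefEq.respectTransparency false
set_option backward.isDefEq.respectTransparency.types false

universe u

open CategoryTheory AlgebraicGeometry TensorProduct

namespace Groth.Agent.CSAType

/-- The generalized Severi–Brauer scheme of any algebra exists. -/
theorem exists_sb (k : Type u) [Field k] (A : Type u) [Ring A] [Algebra k A] (c : ℕ) :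
    ∃ (X : Scheme.{u}) (f : X ⟶ Spec (CommRingCat.of k)), BrSev.IsSBOf k A c f := by
  obtain ⟨G, e, he⟩ := GrassRep.exists_grass k A c
  obtain ⟨Z, ι, hι, hZ⟩ := S12441.result k A c G e he
  haveI := hι
  let pt : ∀ (R : Type u) [CommRing R] [Algebra k R], BrSev.Pts (ι ≫ G.hom) R →
      (GrassRep.sp k (CommAlgCat.of k R) ⟶ G) := fun R _ _ g =>
    Over.homMk (g.1 ≫ ι) (by rw [Category.assoc]; exact g.2)
  have hmem : ∀ (R : Type u) [CommRing R] [Algebra k R] (g : BrSev.Pts (ι ≫ G.hom) R) (a x : R ⊗[k] A),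
      x ∈ (e (CommAlgCat.of k R) (pt R g)).toSubmodule →
        a * x ∈ (e (CommAlgCat.of k R) (pt R g)).toSubmodule := by
    intro R _ _ g a x hx
    have h := (hZ (CommAlgCat.of k R) (pt R g)).1 ⟨g.1, rfl⟩
    induction a using TensorProduct.induction_on with
    | zero => rw [zero_mul]; exact Submodule.zero_mem _
    | tmul r a =>
      rw [show r ⊗ₜ[k] a = r • ((1 : R) ⊗ₜ[k] a) by rw [TensorProduct.smul_tmul', smul_eq_mul, mul_one],
        smul_mul_assoc]
      exact Submodule.smul_mem _ _ (h a x hx)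
    | add a b ha hb => rw [add_mul]; exact Submodule.add_mem _ ha hb
  refine ⟨Z, ι ≫ G.hom, ⟨⟨fun R _ _ => Equiv.ofBijective
    (fun g => ⟨e (CommAlgCat.of k R) (pt R g), hmem R g⟩) ⟨?_, ?_⟩, ?_⟩⟩⟩
  · intro g g' hgg'
    have h := congrArg (fun t => t.left) ((e (CommAlgCat.of k R)).injective (congrArg Subtype.val hgg'))
    exact Subtype.ext ((cancel_mono ι).1 h)
  · rintro ⟨N, hN⟩
    obtain ⟨h, hh⟩ := (hZ (CommAlgCat.of k R) ((e (CommAlgCat.of k R)).symm N)).2 fun a x hx => by
      rw [Equiv.apply_symm_apply] at hx ⊢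
      exact hN _ x hx
    refine ⟨⟨h, ?_⟩, Subtype.ext ?_⟩
    · rw [← Category.assoc, hh]
      exact Over.w ((e (CommAlgCat.of k R)).symm N)
    · show e (CommAlgCat.of k R) (pt R _) = N
      rw [show pt R ⟨h, _⟩ = (e (CommAlgCat.of k R)).symm N from Over.OverMorphism.ext hh, Equiv.apply_symm_apply]
  · intro R S _ _ _ _ φ g
    exact congrArg (fun N => N.toSubmodule)
      (he (CommAlgCat.of k R) (CommAlgCat.of k S) (CommAlgCat.ofHom φ) (pt R g) (pt S (BrSev.Pts.map _ φ g)) (by
        show (_ ≫ _) ≫ ι = _ ≫ (g.1 ≫ ι)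
        rw [Category.assoc]
        rfl))

end Groth.Agent.CSAType
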