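import Groth.Agent.S13270
import Groth.Agent.CSALib.CyclicNorm
import Groth.Agent.CSALib.Index
import Mathlib.FieldTheory.KummerExtension

/-!
# Symbol algebras: existence, splitting by a root
-/

set_option autoImplicit false
set_option linter.style.haveILetI false
set_option backward.isDefEq.respectTransparency false

universe u

open TensorProduct Polynomial

namespace Groth.Agent.CSAType

open CSALib

theorem exists_symbol (k : Type u) [Field k] (n : ℕ) (hn : 0 < n) (ω : k) (hω : IsPrimitiveRoot ω n) (a b : kˣ)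
    (H : Irreducible (X ^ n - C (a : k))) :
    ∃ (A : Type u) (_ : Ring A) (_ : Algebra k A), CSAGal.IsSymbolAlg k n ω a b A ∧
      Algebra.IsCentral k A ∧ IsSimpleRing A ∧ FiniteDimensional k A ∧
      Similar k (⨂[k] _i : Fin n, A) k := by
  haveI : NeZero n := ⟨hn.ne'⟩
  haveI := Fact.mk H
  have hne : (primitiveRoots n k).Nonempty := ⟨ω, (mem_primitiveRoots hn).2 hω⟩
  have hm : (X ^ n - C (a : k) : k[X]).Monic := monic_X_pow_sub_C _ hn.ne'
  haveI : FiniteDimensional k (AdjoinRoot (X ^ n - C (a : k))) := (AdjoinRoot.powerBasis hm.ne_zero).finite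
  haveI := isSplittingField_AdjoinRoot_X_pow_sub_C hne H
  have hn' : (n : k) ≠ 0 := (IsPrimitiveRoot.neZero' hω).ne
  haveI : IsGalois k (AdjoinRoot (X ^ n - C (a : k))) :=
    IsGalois.of_separable_splitting_field (separable_X_pow_sub_C (n := n) (a : k) hn' a.ne_zero)
  have hK : Module.finrank k (AdjoinRoot (X ^ n - C (a : k))) = n := by
    rw [(AdjoinRoot.powerBasis hm.ne_zero).finrank, AdjoinRoot.powerBasis_dim, natDegree_X_pow_sub_C]
  let η : rootsOfUnity n k := hω.toRootsOfUnity
  let E := autAdjoinRootXPowSubCEquiv hne H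
  let σ := E η
  have hσroot : σ (AdjoinRoot.root _) = ω • AdjoinRoot.root (X ^ n - C (a : k)) := by
    rw [autAdjoinRootXPowSubCEquiv_root]
    rfl
  have hσ : ∀ τ : AdjoinRoot (X ^ n - C (a : k)) ≃ₐ[k] AdjoinRoot (X ^ n - C (a : k)),
      τ ∈ Subgroup.zpowers σ := by
    intro τ
    obtain ⟨t, rfl⟩ := E.surjective τ
    have ht : t ∈ Subgroup.zpowers η := by
      obtain ⟨i, -, hi⟩ := hω.eq_pow_of_pow_eq_one (ξ := ((t : kˣ) : k))
        (by rw [← Units.val_pow_eq_pow_val, (mem_rootsOfUnity n _).1 t.2, Units.val_one])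
      refine ⟨i, Subtype.ext (Units.ext ?_)⟩
      simpa [η] using hi
    obtain ⟨i, hi⟩ := ht
    exact ⟨i, by rw [← hi]; exact (map_zpow E η i).symm⟩
  obtain ⟨B, hB⟩ := exists_isCyclicAlg hσ b
  obtain ⟨_, hfd, ι, y, hu, hy, h, hd⟩ := isCyclicAlg_data hB
  obtain ⟨hc, hs, -⟩ := central_simple hσ h hu hd
  have hsym : CSAGal.IsSymbolAlg k n ω a b B :=
    (S13270.result k n hn ω hω _ hK a (AdjoinRoot.root _)
      (root_X_pow_sub_C_pow n (a : k)) (IntermediateField.adjoin_root_eq_top _) σ hσroot b B).2 hB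
  refine ⟨B, inferInstance, inferInstance, hsym, hc, hs, hfd, ?_⟩
  obtain ⟨B', hB'⟩ := exists_isCyclicAlg hσ (b ^ n)
  exact (similar_pow_cyclic hσ hB n hB').trans ((similar_field_iff_norm hσ hB').2
    ⟨algebraMap k _ (b : k), by rw [Algebra.norm_algebraMap, hK, Units.val_pow_eq_pow_val]⟩)

theorem adjoin_baseChange {k : Type u} [Field k] {A : Type u} [Ring A] [Algebra k A] (K : Type u) [Field K]
    [Algebra k K] {s : Set A} (hs : Algebra.adjoin k s = ⊤) :
    Algebra.adjoin K ((Algebra.TensorProduct.includeRight : A →ₐ[k] K ⊗[k] A) '' s) = ⊤ := by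
  refine eq_top_iff.2 fun z _ => ?_
  induction z with
  | zero => exact zero_mem _
  | tmul c x =>
    rw [show c ⊗ₜ[k] x = c • ((1 : K) ⊗ₜ[k] x) by rw [TensorProduct.smul_tmul', smul_eq_mul, mul_one]]
    refine Subalgebra.smul_mem _ ?_ c
    have hx : x ∈ Algebra.adjoin k s := hs ▸ Algebra.mem_top
    induction hx using Algebra.adjoin_induction with
    | mem x hx => exact Algebra.subset_adjoin ⟨x, hx, rfl⟩
    | algebraMap r =>
      rw [Algebra.algebraMap_eq_smul_one, TensorProduct.tmul_smul]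
      rw [← algebraMap_smul K r ((1 : K) ⊗ₜ[k] (1 : A))]
      exact Subalgebra.smul_mem _ (one_mem _) _
    | add x y _ _ hx hy => rw [TensorProduct.tmul_add]; exact add_mem (hx trivial) (hy trivial)
    | mul x y _ _ hx hy =>
      have : (1 : K) ⊗ₜ[k] (x * y) = ((1 : K) ⊗ₜ[k] x) * ((1 : K) ⊗ₜ[k] y) := by
        rw [Algebra.TensorProduct.tmul_mul_tmul, one_mul]
      rw [this]; exact mul_mem (hx trivial) (hy trivial)
  | add x y hx hy => exact add_mem (hx trivial) (hy trivial)

theorem isSymbolAlg_baseChange {k : Type u} [Field k] {n : ℕ} {ω : k} {a b : kˣ} {A : Type u} [Ring A]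
    [Algebra k A] (h : CSAGal.IsSymbolAlg k n ω a b A) (K : Type u) [Field K] [Algebra k K] :
    CSAGal.IsSymbolAlg K n (algebraMap k K ω) (Units.map (algebraMap k K).toMonoidHom a)
      (Units.map (algebraMap k K).toMonoidHom b) (K ⊗[k] A) := by
  obtain ⟨x, y, hx, hy, hxy, hadj, hn, hdim⟩ := h
  let i : A →ₐ[k] K ⊗[k] A := Algebra.TensorProduct.includeRight
  refine ⟨i x, i y, ?_, ?_, ?_, ?_, hn, ?_⟩
  · rw [← map_pow, hx, i.commutes, IsScalarTower.algebraMap_apply k K (K ⊗[k] A)]
    rfl
  · rw [← map_pow, hy, i.commutes, IsScalarTower.algebraMap_apply k K (K ⊗[k] A)]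
    rfl
  · rw [← map_mul, hxy, map_smul, map_mul, algebraMap_smul]
  · rw [show ({i x, i y} : Set (K ⊗[k] A)) = i '' {x, y} by rw [Set.image_pair]]
    exact adjoin_baseChange K hadj
  · rw [Module.finrank_baseChange, hdim]

/-- A symbol algebra whose first slot is a power in the base is split. -/
theorem similar_of_root {K : Type u} [Field K] {n : ℕ} {ω : K} {a b : Kˣ} {A : Type u} [Ring A] [Algebra K A]
    [Algebra.IsCentral K A] [IsSimpleRing A] [FiniteDimensional K A]
    (x y : A) (hx : x ^ n = algebraMap K A (a : K)) (hy : y ^ n = algebraMap K A (b : K))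
    (hxy : x * y = ω • (y * x)) (hadj : Algebra.adjoin K ({x, y} : Set A) = ⊤) (hn0 : 0 < n)
    (hdim : Module.finrank K A = n ^ 2) (c : K) (hc : c ^ n = (a : K))
    (hne : (∑ i ∈ Finset.range n, c⁻¹ ^ i • x ^ i) ≠ 0) :
    Similar K A K := by
  set e : A := ∑ i ∈ Finset.range n, c⁻¹ ^ i • x ^ i with he
  have hc0 : c ≠ 0 := fun h0 => a.ne_zero (by rw [← hc, h0, zero_pow hn0.ne'])
  have hxe : x * e = c • e := by
    have h1 : (c⁻¹ • x) ^ n = 1 := by
      rw [smul_pow, hx, inv_pow, hc, Algebra.smul_def, ← map_mul, inv_mul_cancel₀ a.ne_zero, map_one]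
    have h2 : e = ∑ i ∈ Finset.range n, (c⁻¹ • x) ^ i := Finset.sum_congr rfl fun i _ => (smul_pow _ _ _).symm
    have h3 : (c⁻¹ • x) * e = e := by
      have hs1 : ∑ i ∈ Finset.range (n + 1), (c⁻¹ • x) ^ i = (c⁻¹ • x) * e + 1 := by
        rw [Finset.sum_range_succ', h2, Finset.mul_sum, pow_zero]
        exact congrArg (· + 1) (Finset.sum_congr rfl fun i _ => pow_succ' _ _)
      rw [Finset.sum_range_succ, h1, ← h2] at hs1
      exact (add_right_cancel hs1).symm
    calc x * e = c • ((c⁻¹ • x) * e) := by rw [smul_mul_assoc, smul_smul, mul_inv_cancel₀ hc0, one_smul]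
      _ = c • e := by rw [h3]
  let M : Submodule K A := Submodule.span K (Set.range fun l : Fin n => y ^ (l : ℕ) * e)
  have hxyl : ∀ l : ℕ, x * y ^ l = ω ^ l • (y ^ l * x) := fun l => by
    induction l with
    | zero => simp
    | succ l ih =>
      rw [pow_succ, ← mul_assoc, ih, smul_mul_assoc, mul_assoc, hxy, mul_smul_comm, smul_smul, ← mul_assoc,
        ← pow_succ, ← pow_succ]
  have hMx : ∀ z ∈ M, x * z ∈ M := by
    intro z hz
    induction hz using Submodule.span_induction with
    | mem z hz =>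
      obtain ⟨l, rfl⟩ := hz
      rw [← mul_assoc, hxyl, smul_mul_assoc, mul_assoc, hxe, mul_smul_comm, smul_smul]
      exact M.smul_mem _ (Submodule.subset_span ⟨l, rfl⟩)
    | zero => rw [mul_zero]; exact M.zero_mem
    | add u v _ _ hu hv => rw [mul_add]; exact M.add_mem hu hv
    | smul t u _ hu => rw [mul_smul_comm]; exact M.smul_mem _ hu
  have hMy : ∀ z ∈ M, y * z ∈ M := by
    intro z hz
    induction hz using Submodule.span_induction with
    | mem z hz =>
      obtain ⟨l, rfl⟩ := hz
      rw [← mul_assoc, ← pow_succ']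
      rcases Nat.lt_or_ge ((l : ℕ) + 1) n with hl | hl
      · exact Submodule.subset_span ⟨⟨_, hl⟩, rfl⟩
      · rw [show (l : ℕ) + 1 = n by omega, hy, ← Algebra.smul_def]
        exact M.smul_mem _ (Submodule.subset_span ⟨⟨0, hn0⟩, by simp⟩)
    | zero => rw [mul_zero]; exact M.zero_mem
    | add u v _ _ hu hv => rw [mul_add]; exact M.add_mem hu hv
    | smul t u _ hu => rw [mul_smul_comm]; exact M.smul_mem _ hu
  have hM : ∀ r : A, ∀ z ∈ M, r * z ∈ M := by
    intro r
    have hr : r ∈ Algebra.adjoin K ({x, y} : Set A) := hadj ▸ Algebra.mem_top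
    induction hr using Algebra.adjoin_induction with
    | mem r hr =>
      rcases hr with rfl | rfl
      · exact hMx
      · exact hMy
    | algebraMap t => exact fun z hz => by rw [← Algebra.smul_def]; exact M.smul_mem _ hz
    | add u v _ _ hu hv => exact fun z hz => by rw [add_mul]; exact M.add_mem (hu z hz) (hv z hz)
    | mul u v _ _ hu hv => exact fun z hz => by rw [mul_assoc]; exact hu _ (hv z hz)
  have hem : e ∈ M := Submodule.subset_span ⟨⟨0, hn0⟩, by simp⟩
  haveI : Nontrivial M := ⟨⟨e, hem⟩, 0, fun h => hne (Subtype.ext_iff.1 h)⟩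
  let f : A →ₐ[K] Module.End K M := AlgHom.ofLinearMap
    { toFun := fun r => ((LinearMap.mulLeft K r).restrict (hM r))
      map_add' := fun r s => by ext z; simp [add_mul]
      map_smul' := fun t r => by ext z; simp }
    (by ext z; simp) (fun r s => by ext z; simp [mul_assoc])
  have hinj : Function.Injective f := RingHom.injective f.toRingHom
  have hMn : Module.finrank K M ≤ n := (finrank_range_le_card _).trans (by simp)
  have hle : n ^ 2 ≤ Module.finrank K M * Module.finrank K M := by
    rw [← hdim, ← Module.finrank_linearMap K K M M]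
    exact LinearMap.finrank_le_finrank_of_injective (f := f.toLinearMap) hinj
  have hMeq : Module.finrank K M = n := by nlinarith
  have hfd : Module.finrank K A = Module.finrank K (Module.End K M) := by
    rw [Module.finrank_linearMap, hMeq, hdim, sq]
  have hbij : Function.Bijective f :=
    ⟨hinj, fun w => (LinearMap.injective_iff_surjective_of_finrank_eq_finrank hfd (f := f.toLinearMap)).1 hinj w⟩
  exact similar_of_algEquiv_matrix (n := Module.finrank K M) (by rw [hMeq]; exact hn0.ne')
    ((AlgEquiv.ofBijective f hbij).trans (algEquivMatrix (Module.finBasis K M)))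

theorem similar_symbol_of_root {k : Type u} [Field k] {n : ℕ} {ω : k} (hω : IsPrimitiveRoot ω n) {a b : kˣ}
    (H : Irreducible (X ^ n - C (a : k))) {A : Type u} [Ring A] [Algebra k A]
    [Algebra.IsCentral k A] [IsSimpleRing A] [FiniteDimensional k A]
    (h : CSAGal.IsSymbolAlg k n ω a b A) (K : Type u) [Field K] [Algebra k K] [CharZero K] (c : K)
    (hc : c ^ n = algebraMap k K (a : k)) : Similar K (K ⊗[k] A) K := by
  haveI := isSimpleRing_baseChange k A K
  haveI := isCentral_baseChange k A K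
  obtain ⟨x, y, hx, hy, hxy, hadj, hn0, hdim⟩ := h
  haveI := Fact.mk H
  let i : A →ₐ[k] K ⊗[k] A := Algebra.TensorProduct.includeRight
  haveI : FiniteDimensional k (AdjoinRoot (X ^ n - C (a : k))) :=
    (AdjoinRoot.powerBasis (monic_X_pow_sub_C (a : k) hn0.ne').ne_zero).finite
  obtain ⟨j, hj'⟩ := CSALib.exists_algHom_of_generator (K := AdjoinRoot (X ^ n - C (a : k)))
    (IntermediateField.adjoin_root_eq_top _) x (by
      rw [AdjoinRoot.minpoly_root (monic_X_pow_sub_C _ hn0.ne').ne_zero, (monic_X_pow_sub_C _ hn0.ne').leadingCoeff]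
      simp [hx])
  let φ : AdjoinRoot (X ^ n - C (a : k)) →ₐ[k] K :=
    AdjoinRoot.liftAlgHom _ (Algebra.ofId k K) c (by simp [hc])
  have hj : j (AdjoinRoot.root _) = x := hj'
  have hφ : φ (AdjoinRoot.root _) = c := AdjoinRoot.liftAlgHom_root _ _ _ _
  have hc0 : c ≠ 0 := fun h0 => a.ne_zero ((algebraMap k K).injective (by
    rw [← hc, h0, zero_pow hn0.ne', map_zero]))
  refine similar_of_root (b := Units.map (algebraMap k K).toMonoidHom b)
    (a := Units.map (algebraMap k K).toMonoidHom a) (ω := algebraMap k K ω) (i x) (i y) ?_ ?_ ?_ ?_ hn0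
    (by rw [Module.finrank_baseChange, hdim]) c hc ?_
  · rw [← map_pow, hx, i.commutes, IsScalarTower.algebraMap_apply k K (K ⊗[k] A)]
    rfl
  · rw [← map_pow, hy, i.commutes, IsScalarTower.algebraMap_apply k K (K ⊗[k] A)]
    rfl
  · rw [← map_mul, hxy, map_smul, map_mul, algebraMap_smul]
  · rw [show ({i x, i y} : Set (K ⊗[k] A)) = i '' {x, y} by rw [Set.image_pair]]
    exact adjoin_baseChange K hadj
  · let J : K ⊗[k] AdjoinRoot (X ^ n - C (a : k)) →ₐ[K] K ⊗[k] A :=
      Algebra.TensorProduct.map (AlgHom.id K K) j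
    let Ψ : K ⊗[k] AdjoinRoot (X ^ n - C (a : k)) →ₐ[K] K :=
      Algebra.TensorProduct.lift (AlgHom.id K K) φ (fun _ _ => Commute.all _ _)
    have hJ : Function.Injective J := by
      have := Module.Flat.lTensor_preserves_injective_linearMap (M := K) j.toLinearMap (RingHom.injective j.toRingHom)
      exact this
    have he : (∑ l ∈ Finset.range n, c⁻¹ ^ l • i x ^ l) =
        J (∑ l ∈ Finset.range n, c⁻¹ ^ l • ((1 : K) ⊗ₜ[k] AdjoinRoot.root _) ^ l) := by
      rw [map_sum]
      refine Finset.sum_congr rfl fun l _ => ?_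
      rw [map_smul, map_pow]
      show _ = c⁻¹ ^ l • ((1 : K) ⊗ₜ[k] j (AdjoinRoot.root _)) ^ l
      rw [hj]
      rfl
    intro h0
    rw [he, map_eq_zero_iff J hJ] at h0
    have h1 := congrArg Ψ h0
    rw [map_sum, map_zero] at h1
    have h2 : ∀ l ∈ Finset.range n, Ψ (c⁻¹ ^ l • ((1 : K) ⊗ₜ[k] AdjoinRoot.root (X ^ n - C (a : k))) ^ l) = 1 :=
      fun l _ => by
        rw [map_smul, map_pow, Algebra.TensorProduct.lift_tmul, map_one, one_mul, hφ, smul_eq_mul, ← mul_pow,
          inv_mul_cancel₀ hc0, one_pow]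
    rw [Finset.sum_congr rfl h2, Finset.sum_const, Finset.card_range, nsmul_one] at h1
    exact hn0.ne' (Nat.cast_eq_zero.1 h1)

end Groth.Agent.CSAType
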