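import Groth.Agent.CSAType.QTorus
import Groth.Agent.CSAType.Symbol
import Groth.Agent.CSALib.PiTensor
import Groth.Agent.S13273

/-!
# Central simple algebras of prescribed period and index
-/

set_option autoImplicit false
set_option linter.style.haveILetI false
set_option backward.isDefEq.respectTransparency false

universe u

open TensorProduct

namespace Groth.Agent.CSAType

open CSALib

noncomputable section

theorem exists_decomp {p i : ℕ} (hp : 0 < p) (hi : 0 < i) (hpi : p ∣ i)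
    (hprimes : ∀ q : ℕ, q.Prime → q ∣ i → q ∣ p) :
    ∃ (r : ℕ) (n : Fin r → ℕ), p * ∏ j, n j = i ∧ ∀ j, 0 < n j ∧ n j ∣ p := by
  obtain ⟨q, rfl⟩ := hpi
  have hq : q ≠ 0 := fun h => by subst h; simp at hi
  refine ⟨q.primeFactorsList.length, q.primeFactorsList.get, ?_, fun j => ?_⟩
  · rw [← List.prod_ofFn, List.ofFn_get, Nat.prod_primeFactorsList hq]
  · have h := Nat.prime_of_mem_primeFactorsList (List.get_mem _ j)
    exact ⟨h.pos, hprimes _ h ((Nat.dvd_of_mem_primeFactorsList (List.get_mem _ j)).trans (dvd_mul_left q p))⟩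

theorem irreducible_var {C : Type u} [Field C] {τ : Type*} {k : Type u} [Field k]
    [Algebra (MvPolynomial τ C) k] [IsFractionRing (MvPolynomial τ C) k] (v : τ) {n : ℕ} (hn : 0 < n) :
    Irreducible (Polynomial.X ^ n - Polynomial.C (algebraMap (MvPolynomial τ C) k (MvPolynomial.X v))) := by
  open Polynomial in
  have hR : Irreducible (X ^ n - Polynomial.C (MvPolynomial.X v) : (MvPolynomial τ C)[X]) := by
    have hP : (Ideal.span {(MvPolynomial.X v : MvPolynomial τ C)}).IsPrime :=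
      (Ideal.span_singleton_prime (MvPolynomial.X_ne_zero v)).2 MvPolynomial.X_prime
    refine irreducible_of_eisenstein_criterion hP ?_ ?_ ?_ ?_ (monic_X_pow_sub_C _ hn.ne').isPrimitive
    · rw [(monic_X_pow_sub_C _ hn.ne').leadingCoeff]
      exact fun h => hP.ne_top ((Ideal.eq_top_iff_one _).2 h)
    · intro i hi
      rw [degree_X_pow_sub_C hn, Nat.cast_lt] at hi
      rw [coeff_sub, coeff_X_pow, if_neg hi.ne, zero_sub, neg_mem_iff, coeff_C]
      split_ifs
      · exact Ideal.mem_span_singleton_self _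
      · exact zero_mem _
    · rw [degree_X_pow_sub_C hn]
      exact_mod_cast hn
    · rw [coeff_sub, coeff_X_pow, if_neg hn.ne, coeff_C_zero, zero_sub, neg_mem_iff,
        Ideal.span_singleton_pow, Ideal.mem_span_singleton]
      intro h
      have h' : (MvPolynomial.X v : MvPolynomial τ C) ^ 2 ∣ MvPolynomial.X v ^ 1 := by rwa [pow_one]
      exact absurd ((pow_dvd_pow_iff (MvPolynomial.X_ne_zero v) MvPolynomial.X_prime.not_unit).1 h') (by omega)
  haveI : IsIntegrallyClosed (MvPolynomial τ C) := UniqueFactorizationMonoid.instIsIntegrallyClosed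
  have h := (Polynomial.Monic.irreducible_iff_irreducible_map_fraction_map (K := k)
    (Polynomial.monic_X_pow_sub_C _ hn.ne')).1 hR
  rwa [Polynomial.map_sub, Polynomial.map_pow, Polynomial.map_X, Polynomial.map_C] at h

theorem similar_baseChange_pi {k : Type u} [Field k] (K : Type u) [Field K] [Algebra k K] :
    ∀ (r : ℕ) (A : Fin r → Type u) [∀ j, Ring (A j)] [∀ j, Algebra k (A j)],
      (∀ j, Similar K (K ⊗[k] A j) K) → Similar K (K ⊗[k] (⨂[k] j, A j)) K := by
  intro r
  induction r with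
  | zero =>
    intro A _ _ _
    exact similar_of_algEquiv ((Algebra.TensorProduct.congr AlgEquiv.refl (piEmpty A)).trans
      (Algebra.TensorProduct.rid k K K))
  | succ r ih =>
    intro A _ _ h
    exact (similar_of_algEquiv ((Algebra.TensorProduct.congr AlgEquiv.refl (piSucc A)).trans
      (baseChangeTensor K))).trans (((h 0).tensor (ih (fun j => A j.succ) fun j => h j.succ)).trans
        similar_tensor_self_left)

theorem adjoin_singles {k : Type u} [Field k] {r : ℕ} (A : Fin r → Type u) [∀ j, Ring (A j)]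
    [∀ j, Algebra k (A j)] (s : ∀ j, Set (A j)) (hs : ∀ j, Algebra.adjoin k (s j) = ⊤)
    (S : Subalgebra k (⨂[k] j, A j))
    (hS : ∀ j, ∀ x ∈ s j, PiTensorProduct.singleAlgHom (R := k) (A := A) j x ∈ S) : S = ⊤ := by
  classical
  refine eq_top_iff.2 fun z _ => ?_
  have hj : ∀ j (x : A j), PiTensorProduct.singleAlgHom (R := k) (A := A) j x ∈ S := fun j x => by
    have hle : Algebra.adjoin k (s j) ≤ S.comap (PiTensorProduct.singleAlgHom (R := k) (A := A) j) :=
      Algebra.adjoin_le (hS j)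
    exact hle (hs j ▸ Algebra.mem_top)
  induction z using PiTensorProduct.induction_on with
  | smul_tprod t f =>
    refine S.smul_mem ?_ t
    rw [← Finset.noncommProd_mulSingle f, PiTensorProduct.tprod_noncommProd]
    exact S.toSubmonoid.noncommProd_mem _ _ _ fun j _ => hj j (f j)
  | add x y hx hy => exact add_mem (hx trivial) (hy trivial)

theorem tmul_comm {k A B : Type u} [Field k] [Ring A] [Algebra k A] [Ring B] [Algebra k B] (a : A) (b : B) :
    (a ⊗ₜ[k] (1 : B)) * ((1 : A) ⊗ₜ[k] b) = ((1 : A) ⊗ₜ[k] b) * (a ⊗ₜ[k] (1 : B)) := by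
  simp [Algebra.TensorProduct.tmul_mul_tmul]

theorem exists_psi (C : Type u) [Field C] [CharZero C] (r : ℕ) :
    ∃ (C' : Type u) (_ : Field C') (_ : IsAlgClosed C') (_ : CharZero C') (ι : MvPolynomial (Fin r × Fin 2) C →+* C')
      (ψ : MvPolynomial (Fin 2 ⊕ Fin r × Fin 2) C →+* MvPolynomial (Fin 2) C'),
      Function.Injective ι ∧ Function.Injective ψ ∧
      (∀ t, ψ (MvPolynomial.X (Sum.inl t)) = MvPolynomial.X t) ∧
      (∀ t, ψ (MvPolynomial.X (Sum.inr t)) = MvPolynomial.C (ι (MvPolynomial.X t))) ∧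
      ∀ c, ψ (MvPolynomial.C c) = MvPolynomial.C (ι (MvPolynomial.C c)) := by
  let F := FractionRing (MvPolynomial (Fin r × Fin 2) C)
  let ι : MvPolynomial (Fin r × Fin 2) C →+* AlgebraicClosure F :=
    (algebraMap F (AlgebraicClosure F)).comp (algebraMap _ F)
  have hι : Function.Injective ι :=
    (algebraMap F (AlgebraicClosure F)).injective.comp (IsFractionRing.injective _ F)
  haveI : CharZero (AlgebraicClosure F) :=
    charZero_of_injective_ringHom (f := ι.comp MvPolynomial.C) (hι.comp (MvPolynomial.C_injective _ _))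
  refine ⟨AlgebraicClosure F, inferInstance, inferInstance, inferInstance, ι,
    (MvPolynomial.map ι).comp (MvPolynomial.sumRingEquiv C (Fin 2) (Fin r × Fin 2)).toRingHom, hι,
    (MvPolynomial.map_injective _ hι).comp (RingEquiv.injective _), fun t => ?_, fun t => ?_, fun c => ?_⟩
  · show MvPolynomial.map ι (MvPolynomial.sumRingEquiv C (Fin 2) (Fin r × Fin 2) _) = _
    rw [MvPolynomial.sumRingEquiv_X_inl, MvPolynomial.map_X]
  · show MvPolynomial.map ι (MvPolynomial.sumRingEquiv C (Fin 2) (Fin r × Fin 2) _) = _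
    rw [MvPolynomial.sumRingEquiv_X_inr, MvPolynomial.map_C]
  · show MvPolynomial.map ι (MvPolynomial.sumRingEquiv C (Fin 2) (Fin r × Fin 2) _) = _
    rw [MvPolynomial.sumRingEquiv_C, MvPolynomial.map_C]

theorem var_ne_zero {C : Type u} [Field C] {τ : Type*} {k : Type u} [Field k]
    [Algebra (MvPolynomial τ C) k] [IsFractionRing (MvPolynomial τ C) k] (v : τ) :
    algebraMap (MvPolynomial τ C) k (MvPolynomial.X v) ≠ 0 := fun h =>
  MvPolynomial.X_ne_zero v (IsFractionRing.injective (MvPolynomial τ C) k (h.trans (map_zero _).symm))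

theorem similar_pow_of_baseChange {k : Type u} [Field k] {K : Type u} [Field K] [Algebra k K] {D A0 : Type u}
    [Ring D] [Algebra k D] [Ring A0] [Algebra k A0] (hDK : Similar K (K ⊗[k] D) (K ⊗[k] A0)) (e : ℕ)
    (hs : Similar k (⨂[k] _i : Fin e, D) k) : Similar K (⨂[K] _i : Fin e, K ⊗[k] A0) K :=
  (hDK.symm.pow e).trans ((similar_baseChange_pow (k := k) (A := D) K e).symm.trans
    ((hs.baseChange K).trans (similar_of_algEquiv (Algebra.TensorProduct.rid k K K))))

theorem lower_bound_aux {C : Type u} [Field C] [CharZero C] {r : ℕ} {k : Type u} [Field k] [Algebra C k]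
    [Algebra (MvPolynomial (Fin 2 ⊕ Fin r × Fin 2) C) k] [IsScalarTower C (MvPolynomial (Fin 2 ⊕ Fin r × Fin 2) C) k]
    [IsFractionRing (MvPolynomial (Fin 2 ⊕ Fin r × Fin 2) C) k] {p : ℕ} (hp : 0 < p) {ω0 : C}
    (hω0 : IsPrimitiveRoot ω0 p) (A0 : Type u) [Ring A0] [Algebra k A0] [Algebra.IsCentral k A0]
    [IsSimpleRing A0] [FiniteDimensional k A0] (A : Fin r → Type u) [∀ j, Ring (A j)] [∀ j, Algebra k (A j)]
    (x0 y0 : A0) (hx0 : x0 ^ p = algebraMap k A0 (algebraMap (MvPolynomial (Fin 2 ⊕ Fin r × Fin 2) C) k (MvPolynomial.X (Sum.inl 0))))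
    (hy0 : y0 ^ p = algebraMap k A0 (algebraMap (MvPolynomial (Fin 2 ⊕ Fin r × Fin 2) C) k (MvPolynomial.X (Sum.inl 1))))
    (hxy0 : x0 * y0 = algebraMap C k ω0 • (y0 * x0)) (hadj0 : Algebra.adjoin k ({x0, y0} : Set A0) = ⊤)
    (hdim0 : Module.finrank k A0 = p ^ 2)
    {n : Fin r → ℕ} (hn : ∀ j, 0 < n j) {ω : Fin r → C} (hω : ∀ j, IsPrimitiveRoot (ω j) (n j))
    (hAc : ∀ j, Algebra.IsCentral k (A j)) (hAs : ∀ j, IsSimpleRing (A j)) (hAf : ∀ j, FiniteDimensional k (A j))
    (x y : ∀ j, A j) (hA : ∀ j,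
      x j ^ n j = algebraMap k (A j) (algebraMap (MvPolynomial (Fin 2 ⊕ Fin r × Fin 2) C) k (MvPolynomial.X (Sum.inr (j, 0)))) ∧
      y j ^ n j = algebraMap k (A j) (algebraMap (MvPolynomial (Fin 2 ⊕ Fin r × Fin 2) C) k (MvPolynomial.X (Sum.inr (j, 1)))) ∧
      x j * y j = algebraMap C k (ω j) • (y j * x j) ∧ Algebra.adjoin k ({x j, y j} : Set (A j)) = ⊤ ∧
      Module.finrank k (A j) = n j ^ 2)
    {e : ℕ} (he : 0 < e) (hep : e < p)
    (hs : Similar k (⨂[k] _i : Fin e, (A0 ⊗[k] (⨂[k] j, A j))) k)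
    (K : Type u) [Field K] [CharZero K] [Algebra k K]
    (hroot : ∀ j, ∃ c : K, c ^ n j = algebraMap k K (algebraMap (MvPolynomial (Fin 2 ⊕ Fin r × Fin 2) C) k (MvPolynomial.X (Sum.inr (j, 0))))) :
    CSAGal.IsSymbolAlg K p (algebraMap k K (algebraMap C k ω0))
        (Units.map (algebraMap k K).toMonoidHom (Units.mk0 _ (var_ne_zero (C := C) (k := k) (Sum.inl 0 : Fin 2 ⊕ Fin r × Fin 2))))
        (Units.map (algebraMap k K).toMonoidHom (Units.mk0 _ (var_ne_zero (C := C) (k := k) (Sum.inl 1 : Fin 2 ⊕ Fin r × Fin 2)))) (K ⊗[k] A0) ∧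
      Curves.Splits K (CSAGal.tpow K (K ⊗[k] A0) e) K := by
  have hPK : Similar K (K ⊗[k] (⨂[k] j, A j)) K := similar_baseChange_pi K r A fun j => by
    obtain ⟨c, hc⟩ := hroot j
    haveI := hAc j
    haveI := hAs j
    haveI := hAf j
    exact similar_symbol_of_root (a := Units.mk0 _ (var_ne_zero (C := C) (k := k) (Sum.inr (j, 0) : Fin 2 ⊕ Fin r × Fin 2)))
      (b := Units.mk0 _ (var_ne_zero (C := C) (k := k) (Sum.inr (j, 1) : Fin 2 ⊕ Fin r × Fin 2)))
      ((hω j).map_of_injective (algebraMap C k).injective) (irreducible_var (C := C) (k := k) _ (hn j))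
      ⟨x j, y j, (hA j).1, (hA j).2.1, (hA j).2.2.1, (hA j).2.2.2.1, (hn j), (hA j).2.2.2.2⟩ K c hc
  haveI := isSimpleRing_baseChange k A0 K
  haveI := isCentral_baseChange k A0 K
  have hDK : Similar K (K ⊗[k] (A0 ⊗[k] (⨂[k] j, A j))) (K ⊗[k] A0) :=
    (similar_of_algEquiv (baseChangeTensor K)).trans ((similar_refl.tensor hPK).trans similar_tensor_self_right)
  refine ⟨isSymbolAlg_baseChange ⟨x0, y0, hx0, hy0, hxy0, hadj0, hp, hdim0⟩ K,
    (splits_pow_iff (A := K ⊗[k] A0) e).2 ?_⟩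
  exact similar_pow_of_baseChange hDK e hs

theorem lower_bound {C : Type u} [Field C] [CharZero C] {r : ℕ} {k : Type u} [Field k] [Algebra C k]
    [Algebra (MvPolynomial (Fin 2 ⊕ Fin r × Fin 2) C) k] [IsScalarTower C (MvPolynomial (Fin 2 ⊕ Fin r × Fin 2) C) k]
    [IsFractionRing (MvPolynomial (Fin 2 ⊕ Fin r × Fin 2) C) k] {p : ℕ} (hp : 0 < p) {ω0 : C}
    (hω0 : IsPrimitiveRoot ω0 p) (A0 : Type u) [Ring A0] [Algebra k A0] [Algebra.IsCentral k A0]
    [IsSimpleRing A0] [FiniteDimensional k A0] (A : Fin r → Type u) [∀ j, Ring (A j)] [∀ j, Algebra k (A j)]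
    (x0 y0 : A0) (hx0 : x0 ^ p = algebraMap k A0 (algebraMap (MvPolynomial (Fin 2 ⊕ Fin r × Fin 2) C) k (MvPolynomial.X (Sum.inl 0))))
    (hy0 : y0 ^ p = algebraMap k A0 (algebraMap (MvPolynomial (Fin 2 ⊕ Fin r × Fin 2) C) k (MvPolynomial.X (Sum.inl 1))))
    (hxy0 : x0 * y0 = algebraMap C k ω0 • (y0 * x0)) (hadj0 : Algebra.adjoin k ({x0, y0} : Set A0) = ⊤)
    (hdim0 : Module.finrank k A0 = p ^ 2)
    {n : Fin r → ℕ} (hn : ∀ j, 0 < n j) {ω : Fin r → C} (hω : ∀ j, IsPrimitiveRoot (ω j) (n j))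
    (hAc : ∀ j, Algebra.IsCentral k (A j)) (hAs : ∀ j, IsSimpleRing (A j)) (hAf : ∀ j, FiniteDimensional k (A j))
    (x y : ∀ j, A j) (hA : ∀ j,
      x j ^ n j = algebraMap k (A j) (algebraMap (MvPolynomial (Fin 2 ⊕ Fin r × Fin 2) C) k (MvPolynomial.X (Sum.inr (j, 0)))) ∧
      y j ^ n j = algebraMap k (A j) (algebraMap (MvPolynomial (Fin 2 ⊕ Fin r × Fin 2) C) k (MvPolynomial.X (Sum.inr (j, 1)))) ∧
      x j * y j = algebraMap C k (ω j) • (y j * x j) ∧ Algebra.adjoin k ({x j, y j} : Set (A j)) = ⊤ ∧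
      Module.finrank k (A j) = n j ^ 2)
    {e : ℕ} (he : 0 < e) (hep : e < p) :
    ¬ Similar k (⨂[k] _i : Fin e, (A0 ⊗[k] (⨂[k] j, A j))) k := by
  intro hs
  obtain ⟨C', _, _, _, ι, ψ, hιinj, hψ, hψl, hψr, hψc⟩ := exists_psi C r
  haveI : CharZero (FractionRing (MvPolynomial (Fin 2) C')) :=
    charZero_of_injective_algebraMap (algebraMap C' _).injective
  have hι : Function.Injective ((algebraMap (MvPolynomial (Fin 2) C') (FractionRing (MvPolynomial (Fin 2) C'))).comp ψ) :=
    (IsFractionRing.injective (MvPolynomial (Fin 2) C') (FractionRing (MvPolynomial (Fin 2) C'))).comp hψ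
  letI : Algebra k (FractionRing (MvPolynomial (Fin 2) C')) := (IsFractionRing.lift (A := MvPolynomial (Fin 2 ⊕ Fin r × Fin 2) C) (K := k) hι).toAlgebra
  have hmap : ∀ z, algebraMap k (FractionRing (MvPolynomial (Fin 2) C'))
      (algebraMap (MvPolynomial (Fin 2 ⊕ Fin r × Fin 2) C) k z) = algebraMap (MvPolynomial (Fin 2) C') _ (ψ z) :=
    fun z => IsFractionRing.lift_algebraMap (A := MvPolynomial (Fin 2 ⊕ Fin r × Fin 2) C) (K := k)
      (L := FractionRing (MvPolynomial (Fin 2) C')) hι z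
  obtain ⟨hsym, hsp⟩ := lower_bound_aux hp hω0 A0 A x0 y0 hx0 hy0 hxy0 hadj0 hdim0 hn hω hAc hAs hAf x y hA he hep hs
    (FractionRing (MvPolynomial (Fin 2) C')) (fun j => by
      obtain ⟨c, hc⟩ := IsAlgClosed.exists_pow_nat_eq (ι (MvPolynomial.X (j, 0))) (hn j)
      exact ⟨algebraMap (MvPolynomial (Fin 2) C') _ (MvPolynomial.C c), by rw [hmap, hψr, ← map_pow, ← map_pow, hc]⟩)
  haveI := isSimpleRing_baseChange k A0 (FractionRing (MvPolynomial (Fin 2) C'))
  haveI := isCentral_baseChange k A0 (FractionRing (MvPolynomial (Fin 2) C'))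
  have hωC' : IsPrimitiveRoot (ι (MvPolynomial.C ω0)) p :=
    hω0.map_of_injective (f := ι.comp MvPolynomial.C) (hιinj.comp (MvPolynomial.C_injective _ _))
  rw [IsScalarTower.algebraMap_apply C (MvPolynomial (Fin 2 ⊕ Fin r × Fin 2) C) k, hmap,
    MvPolynomial.algebraMap_eq, hψc] at hsym
  exact (S13273.result C' p hp _ hωC' _ _ ((hmap _).trans (congrArg _ (hψl 0)))
    ((hmap _).trans (congrArg _ (hψl 1))) _ hsym).2.2 e he hep hsp

theorem exists_csa (p i d : ℕ) (hp : 0 < p) (hi : 0 < i) (hd : 0 < d)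
    (hpi : p ∣ i) (hid : i ∣ d) (hprimes : ∀ q : ℕ, q.Prime → q ∣ i → q ∣ p) :
    ∃ (k : Type u) (_ : Field k) (A : Type u) (_ : Ring A) (_ : Algebra k A),
      Algebra.IsCentral k A ∧ IsSimpleRing A ∧ Module.finrank k A = d * d ∧
      CSAGal.IsPeriod k A p ∧ CSAGal.IsIndex k A i := by
  classical
  obtain ⟨r, n, hprod, hn⟩ := exists_decomp hp hi hpi hprimes
  let C := AlgebraicClosure (ULift.{u} ℚ)
  haveI : CharZero (ULift.{u} ℚ) :=
    charZero_of_injective_ringHom (f := ((ULift.ringEquiv.{0, u} (R := ℚ)).symm : ℚ →+* ULift.{u} ℚ)) (RingEquiv.injective _)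
  haveI : CharZero C := charZero_of_injective_algebraMap (algebraMap (ULift.{u} ℚ) C).injective
  let τ := Fin 2 ⊕ (Fin r × Fin 2)
  let R := MvPolynomial τ C
  let k := FractionRing R
  have hroot : ∀ m : ℕ, 0 < m → ∃ ω : C, IsPrimitiveRoot ω m := fun m hm => by
    haveI : NeZero (m : C) := ⟨Nat.cast_ne_zero.2 hm.ne'⟩
    haveI : NeZero m := ⟨hm.ne'⟩
    exact HasEnoughRootsOfUnity.prim
  obtain ⟨ω0, hω0⟩ := hroot p hp
  choose ω hω using fun j => hroot (n j) (hn j).1
  have hωk : ∀ {m : ℕ} {w : C}, IsPrimitiveRoot w m → IsPrimitiveRoot (algebraMap C k w) m := fun h =>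
    h.map_of_injective (algebraMap C k).injective
  have hv0 : ∀ v : τ, algebraMap R k (MvPolynomial.X v) ≠ 0 := fun v h =>
    MvPolynomial.X_ne_zero v (IsFractionRing.injective R k (h.trans (map_zero _).symm))
  let var : τ → kˣ := fun v => Units.mk0 _ (hv0 v)
  obtain ⟨A0, _, _, hA0, _, _, _, hA0p⟩ := exists_symbol k p hp _ (hωk hω0) (var (.inl 0)) (var (.inl 1))
    (irreducible_var (C := C) (k := k) (Sum.inl 0 : τ) hp)
  choose A iA₁ iA₂ hA hAc hAs hAf hAp using fun j => exists_symbol k (n j) (hn j).1 _ (hωk (hω j))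
    (var (.inr (j, 0))) (var (.inr (j, 1))) (irreducible_var (C := C) (k := k) (Sum.inr (j, 0) : τ) (hn j).1)
  letI : ∀ j, Ring (A j) := iA₁
  letI : ∀ j, Algebra k (A j) := iA₂
  let P := ⨂[k] j, A j
  obtain ⟨hPc, hPs, hPf, hPd⟩ := centralSimple_pi_fin (k := k) r A fun j => ⟨hAc j, hAs j, hAf j⟩
  haveI : Algebra.IsCentral k P := hPc
  haveI : IsSimpleRing P := hPs
  haveI : FiniteDimensional k P := hPf
  let D := A0 ⊗[k] P
  haveI : Algebra.IsCentral k D := isCentral_tensorProduct k A0 P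
  haveI : IsSimpleRing D := isSimpleRing_tensorProduct k A0 P
  obtain ⟨x0, y0, hx0, hy0, hxy0, hadj0, -, hdim0⟩ := hA0
  choose x y hx hy hxy hadj hnpos hdimj using hA
  let s : ∀ j, A j →ₐ[k] P := fun j => PiTensorProduct.singleAlgHom (R := k) (A := A) j
  let gens : τ → D := Sum.elim ![x0 ⊗ₜ[k] (1 : P), y0 ⊗ₜ[k] (1 : P)]
    (fun jt => (1 : A0) ⊗ₜ[k] s jt.1 (![x jt.1, y jt.1] jt.2))
  let m : τ → ℕ := Sum.elim (fun _ => p) (fun jt => n jt.1)
  letI : Algebra C D := ((algebraMap k D).comp (algebraMap C k)).toAlgebra' fun c x => Algebra.commutes (R := k) (algebraMap C k c) x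
  haveI : IsScalarTower C k D := IsScalarTower.of_algebraMap_smul fun c z =>
    (Algebra.smul_def (R := k) _ z).trans (Algebra.smul_def (R := C) c z).symm
  have hdimD : Module.finrank k D = i ^ 2 := by
    rw [Module.finrank_tensorProduct, hdim0, hPd, Finset.prod_congr rfl fun j _ => hdimj j,
      Finset.prod_pow, ← mul_pow, hprod]
  have hgen : Algebra.adjoin k (Set.range gens) = ⊤ := by
    set S := Algebra.adjoin k (Set.range gens)
    have hl : ∀ a : A0, a ⊗ₜ[k] (1 : P) ∈ S := fun a => by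
      have hle : Algebra.adjoin k ({x0, y0} : Set A0) ≤
          S.comap (Algebra.TensorProduct.includeLeft : A0 →ₐ[k] D) := Algebra.adjoin_le (by
        rintro z (rfl | rfl)
        · exact Algebra.subset_adjoin ⟨.inl 0, rfl⟩
        · exact Algebra.subset_adjoin ⟨.inl 1, rfl⟩)
      exact hle (hadj0 ▸ Algebra.mem_top)
    have hr : S.comap (Algebra.TensorProduct.includeRight : P →ₐ[k] D) = ⊤ :=
      adjoin_singles A (fun j => {x j, y j}) hadj _ (by
        rintro j z (rfl | rfl)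
        · exact Algebra.subset_adjoin ⟨.inr (j, 0), rfl⟩
        · exact Algebra.subset_adjoin ⟨.inr (j, 1), rfl⟩)
    refine eq_top_iff.2 fun z _ => ?_
    induction z using TensorProduct.induction_on with
    | zero => exact zero_mem _
    | tmul a b =>
      rw [show a ⊗ₜ[k] b = (a ⊗ₜ[k] (1 : P)) * ((1 : A0) ⊗ₜ[k] b) by
        rw [Algebra.TensorProduct.tmul_mul_tmul, mul_one, one_mul]]
      exact mul_mem (hl a) (show b ∈ S.comap (Algebra.TensorProduct.includeRight : P →ₐ[k] D) by rw [hr]; trivial)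
    | add a b ha hb => exact add_mem (ha trivial) (hb trivial)
  have hsk : ∀ {B : Type u} [Ring B] [Algebra k B] (f : B →ₐ[k] D) {m : ℕ} {w : C}, IsPrimitiveRoot w m → 0 < m →
      ∀ u v : B, u * v = algebraMap C k w • (v * u) → QTorus.Rel C (f u * f v) (f v * f u) := by
    intro B _ _ f m w hw hm u v huv
    refine ⟨w, hw.ne_zero hm.ne', ?_⟩
    rw [← map_mul, huv, map_smul, map_mul, algebraMap_smul]
  have hg : ∀ a b, QTorus.Rel C (gens a * gens b) (gens b * gens a) := by
    have hskew0 : ∀ t t' : Fin 2, QTorus.Rel C (gens (.inl t) * gens (.inl t')) (gens (.inl t') * gens (.inl t)) := by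
      have h01 := hsk (Algebra.TensorProduct.includeLeft : A0 →ₐ[k] D) hω0 hp x0 y0 hxy0
      intro t t'
      fin_cases t <;> fin_cases t'
      · exact QTorus.rel_refl _
      · exact h01
      · exact h01.symm
      · exact QTorus.rel_refl _
    have hskew1 : ∀ (j : Fin r) (t t' : Fin 2),
        QTorus.Rel C (gens (.inr (j, t)) * gens (.inr (j, t'))) (gens (.inr (j, t')) * gens (.inr (j, t))) := by
      intro j t t'
      have h01 := hsk ((Algebra.TensorProduct.includeRight : P →ₐ[k] D).comp (s j)) (hω j) (hn j).1 (x j) (y j) (hxy j)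
      fin_cases t <;> fin_cases t'
      · exact QTorus.rel_refl _
      · exact h01
      · exact h01.symm
      · exact QTorus.rel_refl _
    have hcross : ∀ (t : Fin 2) (jt : Fin r × Fin 2),
        gens (.inl t) * gens (.inr jt) = gens (.inr jt) * gens (.inl t) := by
      intro t jt
      fin_cases t <;> exact tmul_comm _ _
    rintro (t | ⟨j, t⟩) (t' | ⟨j', t'⟩)
    · exact hskew0 t t'
    · rw [hcross]; exact QTorus.rel_refl _
    · rw [← hcross]; exact QTorus.rel_refl _
    · by_cases hj : j = j'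
      · subst hj; exact hskew1 j t t'
      · have h : s j (![x j, y j] t) * s j' (![x j', y j'] t') = s j' (![x j', y j'] t') * s j (![x j, y j] t) := by
          simp only [s, PiTensorProduct.singleAlgHom_apply]
          exact (Pi.mulSingle_commute hj _ _).tprod
        have h' := congrArg (Algebra.TensorProduct.includeRight : P →ₐ[k] D) h
        rw [map_mul, map_mul] at h'
        exact (show gens (.inr (j, t)) * gens (.inr (j', t')) = gens (.inr (j', t')) * gens (.inr (j, t)) from h') ▸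
          QTorus.rel_refl _
  have hm : ∀ a, gens a ^ m a = algebraMap k D (algebraMap R k (MvPolynomial.X a)) := by
    rintro (t | ⟨j, t⟩)
    · fin_cases t
      · exact ((map_pow (Algebra.TensorProduct.includeLeft : A0 →ₐ[k] D) x0 p).symm.trans
          (congrArg _ hx0)).trans (AlgHom.commutes _ _)
      · exact ((map_pow (Algebra.TensorProduct.includeLeft : A0 →ₐ[k] D) y0 p).symm.trans
          (congrArg _ hy0)).trans (AlgHom.commutes _ _)
    · fin_cases t
      · exact ((map_pow ((Algebra.TensorProduct.includeRight : P →ₐ[k] D).comp (s j)) (x j) (n j)).symm.trans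
          (congrArg _ (hx j))).trans (AlgHom.commutes _ _)
      · exact ((map_pow ((Algebra.TensorProduct.includeRight : P →ₐ[k] D).comp (s j)) (y j) (n j)).symm.trans
          (congrArg _ (hy j))).trans (AlgHom.commutes _ _)
  have hpos : ∀ a, 0 < m a := by
    rintro (t | ⟨j, t⟩)
    · exact hp
    · exact (hn j).1
  have hprodm : ∏ a, m a = i ^ 2 := by
    rw [Fintype.prod_sum_type, Fintype.prod_prod_type]
    simp only [m, Sum.elim_inl, Sum.elim_inr, Finset.prod_const, Finset.card_univ, Fintype.card_fin]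
    rw [Finset.prod_pow, ← mul_pow, hprod]
  haveI : FiniteDimensional k D := Module.finite_of_finrank_pos (by rw [hdimD]; positivity)
  haveI : NoZeroDivisors D :=
    QTorus.noZeroDivisors (C := C) (k := k) gens hg m hm hpos hgen (hdimD.trans hprodm.symm)
  haveI : IsDomain D := NoZeroDivisors.to_isDomain D
  letI : DivisionRing D := divisionRingOfFiniteDimensional k D
  have hkill : Similar k (⨂[k] _i : Fin p, D) k := by
    refine (similar_pow_tensor p).trans ((hA0p.tensor ?_).trans similar_tensor_self_left)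
    exact (similar_pow_pi_of_killed A p).1 fun j => by
      obtain ⟨c, hc⟩ := (hn j).2
      rw [hc]
      exact pow_mul_split (hAp j) c
  have hmin : ∀ e, 0 < e → e < p → ¬ Similar k (⨂[k] _i : Fin e, D) k := fun e he hep =>
    lower_bound hp hω0 A0 A x0 y0 hx0 hy0 hxy0 hadj0 hdim0 (fun j => (hn j).1) hω hAc hAs hAf x y
      (fun j => ⟨hx j, hy j, hxy j, hadj j, hdimj j⟩) he hep
  obtain ⟨q, hq⟩ := hid
  have hq0 : q ≠ 0 := fun h => by subst h; simp at hq; omega
  haveI : NeZero q := ⟨hq0⟩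
  obtain ⟨hMc, hMs⟩ : Algebra.IsCentral k (Matrix (Fin q) (Fin q) D) ∧ IsSimpleRing (Matrix (Fin q) (Fin q) D) :=
    ⟨inferInstance, inferInstance⟩
  have hsim : Similar k (Matrix (Fin q) (Fin q) D) D := similar_matrix hq0
  refine ⟨k, inferInstance, Matrix (Fin q) (Fin q) D, inferInstance, inferInstance, hMc, hMs, ?_, ?_, ?_⟩
  · rw [Module.finrank_matrix, Fintype.card_fin, hdimD, hq]
    ring
  · exact ⟨hp, (splits_pow_iff p).2 ((hsim.pow p).trans hkill),
      fun e he hep h => hmin e he hep ((hsim.pow e).symm.trans ((splits_pow_iff e).1 h))⟩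
  · exact ⟨hi, q, D, inferInstance, inferInstance, Nat.pos_of_ne_zero hq0, hdimD, ⟨AlgEquiv.refl⟩⟩

end

end Groth.Agent.CSAType
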